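import Mathlib

/-!
Weights of an abelian group of exponent three acting in a ring of characteristic two: idempotents attached
to its subgroups, existence of weights and their orthogonality.
-/

set_option autoImplicit false
set_option linter.unusedSectionVars false

namespace CfsgLib.LargeFischer.Weights

variable {Γ R : Type*} [Group Γ] [Finite Γ] [Ring R] (ρ : Γ →* R)

/-- The sum of the images of the members of a subgroup. -/
noncomputable def avg (H : Subgroup Γ) : R := ∑ h ∈ (H : Set Γ).toFinite.toFinset, ρ h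

theorem map_mul_avg {H : Subgroup Γ} {k : Γ} (hk : k ∈ H) : ρ k * avg ρ H = avg ρ H := by
  rw [avg, Finset.mul_sum]
  refine Finset.sum_equiv (Equiv.mulLeft k) (fun h => ?_) fun h _ => by simp
  simp [Subgroup.mul_mem_cancel_left H hk]

theorem avg_mul_map {H : Subgroup Γ} {k : Γ} (hk : k ∈ H) : avg ρ H * ρ k = avg ρ H := by
  rw [avg, Finset.sum_mul]
  refine Finset.sum_equiv (Equiv.mulRight k) (fun h => ?_) fun h _ => by simp
  simp [Subgroup.mul_mem_cancel_right H hk]

theorem map_conj_avg (g : Γ) (H : Subgroup Γ) :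
    ρ g * avg ρ H = avg ρ (H.map (MulAut.conj g).toMonoidHom) * ρ g := by
  rw [avg, avg, Finset.mul_sum, Finset.sum_mul]
  refine Finset.sum_equiv (MulAut.conj g).toEquiv (fun h => ?_) fun h _ => ?_
  · simp [mul_assoc]
  · simp [← map_mul, mul_assoc]

/-- The hypotheses: `M` is abelian of exponent three and `R` has characteristic two. -/
structure Hyp (M : Subgroup Γ) : Prop where
  two : (2 : R) = 0
  comm : ∀ a ∈ M, ∀ b ∈ M, a * b = b * a
  cube : ∀ a ∈ M, a ^ 3 = 1

variable {ρ} {M : Subgroup Γ} (hM : Hyp (R := R) M)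

include hM

theorem Hyp.add_self (x : R) : x + x = 0 := by rw [← two_mul, hM.two, zero_mul]

theorem Hyp.odd {H : Subgroup Γ} (hH : H ≤ M) : Odd (Nat.card H) := by
  by_contra h
  obtain ⟨x, hx⟩ := exists_prime_orderOf_dvd_card' (G := H) 2
    (even_iff_two_dvd.1 (Nat.not_odd_iff_even.1 h))
  have h3 : x ^ 3 = 1 := Subtype.ext (by simpa using hM.cube _ (hH x.2))
  have := orderOf_dvd_of_pow_eq_one h3
  rw [hx] at this
  norm_num at this

theorem Hyp.avg_mul {H : Subgroup Γ} (hH : H ≤ M) {X : R} (h : ∀ k ∈ H, ρ k * X = X) : avg ρ H * X = X := by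
  rw [avg, Finset.sum_mul, Finset.sum_congr rfl fun k hk => h k (by simpa using hk), Finset.sum_const,
    show ((H : Set Γ).toFinite.toFinset).card = Nat.card H from
      ((Nat.card_coe_set_eq _).trans (Set.ncard_eq_toFinset_card _ _)).symm]
  obtain ⟨n, hn⟩ := hM.odd hH
  rw [hn, succ_nsmul, mul_nsmul, two_nsmul, hM.add_self, smul_zero, zero_add]

theorem Hyp.commute_map {a b : Γ} (ha : a ∈ M) (hb : b ∈ M) : Commute (ρ a) (ρ b) := by
  show ρ a * ρ b = ρ b * ρ a
  rw [← map_mul, ← map_mul, hM.comm a ha b hb]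

theorem Hyp.commute_avg {H : Subgroup Γ} (hH : H ≤ M) {a : Γ} (ha : a ∈ M) :
    Commute (ρ a) (avg ρ H) :=
  Commute.sum_right _ _ _ fun k hk => hM.commute_map ha (hH (by simpa using hk))

theorem Hyp.avg_mul_avg {H K : Subgroup Γ} (hH : H ≤ M) (hK : K ≤ M) :
    avg ρ H * avg ρ K = avg ρ (H ⊔ K) := by
  have hJ : H ⊔ K ≤ M := sup_le hH hK
  have hfix : ∀ j ∈ H ⊔ K, ρ j * (avg ρ H * avg ρ K) = avg ρ H * avg ρ K := by
    intro j hj
    rw [Subgroup.sup_eq_closure] at hj
    induction hj using Subgroup.closure_induction with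
    | mem x hx =>
      rcases hx with hx | hx
      · rw [← mul_assoc, map_mul_avg ρ hx]
      · rw [← mul_assoc, (hM.commute_avg hH (hK hx)).eq, mul_assoc, map_mul_avg ρ hx]
    | one => simp
    | mul x y _ _ hx hy => rw [map_mul, mul_assoc, hy, hx]
    | inv x _ hx => conv_lhs => rw [← hx, ← mul_assoc, ← map_mul, inv_mul_cancel, map_one, one_mul]
  rw [← hM.avg_mul hJ hfix, ← mul_assoc]
  have h1 : avg ρ (H ⊔ K) * avg ρ H = avg ρ (H ⊔ K) := by
    rw [avg, Finset.sum_mul]
    have : ∀ j ∈ ((H ⊔ K : Subgroup Γ) : Set Γ).toFinite.toFinset, ρ j * avg ρ H = avg ρ H * ρ j :=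
      fun j hj => (hM.commute_avg hH (hJ (by simpa using hj))).eq
    rw [Finset.sum_congr rfl this, ← Finset.mul_sum]
    exact hM.avg_mul hH fun k hk => map_mul_avg ρ (Subgroup.mem_sup_left hk)
  have h2 : avg ρ (H ⊔ K) * avg ρ K = avg ρ (H ⊔ K) := by
    rw [avg, Finset.sum_mul]
    have : ∀ j ∈ ((H ⊔ K : Subgroup Γ) : Set Γ).toFinite.toFinset, ρ j * avg ρ K = avg ρ K * ρ j :=
      fun j hj => (hM.commute_avg hK (hJ (by simpa using hj))).eq
    rw [Finset.sum_congr rfl this, ← Finset.mul_sum]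
    exact hM.avg_mul hK fun k hk => map_mul_avg ρ (Subgroup.mem_sup_right hk)
  rw [h1, h2]

/-- The projection on the weight space of a hyperplane. -/
noncomputable def proj (ρ : Γ →* R) (M H : Subgroup Γ) : R := avg ρ H + avg ρ M

omit hM in
/-- A hyperplane occurring as a weight. -/
def IsWeight (ρ : Γ →* R) (M H : Subgroup Γ) : Prop :=
  H ≤ M ∧ H ≠ M ∧ (∀ a ∈ M, a ∉ H → M ≤ H ⊔ Subgroup.zpowers a) ∧ proj ρ M H ≠ 0

theorem Hyp.map_mul_proj {H : Subgroup Γ} {k : Γ} (hH : H ≤ M) (hk : k ∈ H) :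
    ρ k * proj ρ M H = proj ρ M H := by
  rw [proj, mul_add, map_mul_avg ρ hk, map_mul_avg ρ (hH hk)]

theorem Hyp.avg_self_mul_proj {H : Subgroup Γ} (hH : H ≤ M) : avg ρ M * proj ρ M H = 0 := by
  rw [proj, mul_add, hM.avg_mul_avg le_rfl hH, hM.avg_mul_avg le_rfl le_rfl, sup_idem,
    sup_eq_left.2 hH, hM.add_self]

theorem Hyp.proj_mul_self {H : Subgroup Γ} (hH : H ≤ M) : proj ρ M H * proj ρ M H = proj ρ M H := by
  conv_lhs => rw [proj, add_mul]
  have h := hM.avg_self_mul_proj (ρ := ρ) hH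
  rw [proj] at h ⊢
  rw [h, add_zero, mul_add, hM.avg_mul_avg hH hH, hM.avg_mul_avg hH le_rfl, sup_idem, sup_eq_right.2 hH]

theorem Hyp.proj_mul_proj {H K : Subgroup Γ} (hH : IsWeight ρ M H) (hK : IsWeight ρ M K) (hne : H ≠ K) :
    proj ρ M H * proj ρ M K = 0 := by
  have hsup : H ⊔ K = M := by
    refine le_antisymm (sup_le hH.1 hK.1) ?_
    by_cases hKH : K ≤ H
    · obtain ⟨a, haH, haK⟩ := SetLike.exists_of_lt (lt_of_le_of_ne hKH hne.symm)
      exact (hK.2.2.1 a (hH.1 haH) haK).trans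
        (sup_le le_sup_right ((Subgroup.zpowers_le.2 haH).trans le_sup_left))
    · obtain ⟨a, haK, haH⟩ := SetLike.not_le_iff_exists.1 hKH
      exact (hH.2.2.1 a (hK.1 haK) haH).trans
        (sup_le le_sup_left ((Subgroup.zpowers_le.2 haK).trans le_sup_right))
  conv_lhs => rw [proj, add_mul, hM.avg_self_mul_proj hK.1, add_zero, proj, mul_add,
    hM.avg_mul_avg hH.1 hK.1, hM.avg_mul_avg hH.1 le_rfl, hsup, sup_eq_right.2 hH.1, hM.add_self]

/-- An element of `M` acting non-trivially avoids some weight. -/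
theorem Hyp.exists_weight {m : Γ} (hm : m ∈ M) (hne : ρ m ≠ 1) : ∃ H, IsWeight ρ M H ∧ m ∉ H := by
  classical
  let S : Set (Subgroup Γ) := {K | K ≤ M ∧ avg ρ K * (1 + ρ m) ≠ 0}
  have h0 : ⊥ ∈ S := by
    refine ⟨bot_le, fun h => hne ?_⟩
    have e : avg ρ (⊥ : Subgroup Γ) = 1 := by
      rw [avg, show ((⊥ : Subgroup Γ) : Set Γ).toFinite.toFinset = {1} by ext; simp, Finset.sum_singleton,
        map_one]
    rw [e, one_mul] at h
    calc ρ m = 1 + (1 + ρ m) := by rw [← add_assoc, hM.add_self, zero_add]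
      _ = 1 := by rw [h, add_zero]
  obtain ⟨K, hKS, hmax⟩ := (Set.toFinite S).exists_maximal ⟨⊥, h0⟩
  obtain ⟨hKM, hK⟩ := hKS
  have hmK : m ∉ K := fun h => hK (by
    rw [mul_add, mul_one, avg_mul_map ρ h, hM.add_self])
  have line : ∀ a ∈ M, a ∉ K → avg ρ K * (1 + ρ a + ρ a * ρ a) * (1 + ρ m) = 0 := by
    intro a ha haK
    have hJ : K ⊔ Subgroup.zpowers a ≤ M := sup_le hKM (Subgroup.zpowers_le.2 ha)
    have e3 : ρ a * (ρ a * ρ a) = 1 := by
      rw [← map_mul, ← map_mul, show a * (a * a) = a ^ 3 by rw [pow_succ, pow_two, mul_assoc], hM.cube a ha, map_one]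
    set X := avg ρ K * (1 + ρ a + ρ a * ρ a)
    have hfa : ρ a * X = X := by
      show ρ a * (avg ρ K * _) = avg ρ K * _
      rw [← mul_assoc, (hM.commute_avg hKM ha).eq, mul_assoc]
      congr 1
      rw [mul_add, mul_add, mul_one, e3]
      abel
    have hfix : ∀ j ∈ K ⊔ Subgroup.zpowers a, ρ j * X = X := by
      intro j hj
      rw [Subgroup.zpowers_eq_closure, Subgroup.sup_eq_closure] at hj
      induction hj using Subgroup.closure_induction with
      | mem x hx =>
        rcases hx with hx | hx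
        · rw [← mul_assoc, map_mul_avg ρ hx]
        · have hxz : x ∈ Subgroup.zpowers a := by rw [Subgroup.zpowers_eq_closure]; exact hx
          obtain ⟨n, rfl⟩ := (isOfFinOrder_of_finite a).mem_powers_iff_mem_zpowers.2 hxz
          show ρ (a ^ n) * X = X
          induction n with
          | zero => simp
          | succ i ih => rw [pow_succ, map_mul, mul_assoc, hfa]; exact ih (by rw [← Subgroup.zpowers_eq_closure]; exact Subgroup.npow_mem_zpowers _ _) (Subgroup.npow_mem_zpowers _ _)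
      | one => simp
      | mul x y _ _ hx hy => rw [map_mul, mul_assoc, hy, hx]
      | inv x _ hx => conv_lhs => rw [← hx, ← mul_assoc, ← map_mul, inv_mul_cancel, map_one, one_mul]
    have hXJ : X = avg ρ (K ⊔ Subgroup.zpowers a) := by
      rw [← hM.avg_mul hJ hfix]
      show avg ρ _ * (avg ρ K * (1 + ρ a + ρ a * ρ a)) = _
      rw [← mul_assoc, hM.avg_mul_avg hJ hKM, sup_eq_left.2 le_sup_left, mul_add, mul_add, mul_one,
        ← mul_assoc, avg_mul_map ρ (Subgroup.mem_sup_right (Subgroup.mem_zpowers a)),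
        avg_mul_map ρ (Subgroup.mem_sup_right (Subgroup.mem_zpowers a)), hM.add_self, zero_add]
    rw [hXJ]
    by_contra h
    exact haK ((hmax ⟨hJ, h⟩ le_sup_left) (Subgroup.mem_sup_right (Subgroup.mem_zpowers a)))
  have hhyp : ∀ a ∈ M, a ∉ K → M ≤ K ⊔ Subgroup.zpowers a := by
    intro a ha haK b hb
    by_contra hbJ
    have hbK : b ∉ K := fun h => hbJ (Subgroup.mem_sup_left h)
    have haJ : a ∈ K ⊔ Subgroup.zpowers a := Subgroup.mem_sup_right (Subgroup.mem_zpowers a)
    have h1 : a * b ∉ K := fun h => hbJ (by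
      have := Subgroup.mul_mem _ (inv_mem haJ) (Subgroup.mem_sup_left (T := Subgroup.zpowers a) h)
      rwa [inv_mul_cancel_left] at this)
    have h2 : a * (b * b) ∉ K := fun h => hbJ (by
      have := Subgroup.mul_mem _ (inv_mem haJ) (Subgroup.mem_sup_left (T := Subgroup.zpowers a) h)
      rw [inv_mul_cancel_left] at this
      have := inv_mem this
      rwa [show (b * b)⁻¹ = b by
        rw [inv_eq_iff_mul_eq_one, ← hM.cube b hb, pow_succ, pow_two]] at this)
    set A := ρ a
    set B := ρ b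
    have hAB : A * B = B * A := hM.commute_map ha hb
    have hB3 : B * B * B = 1 := by
      rw [← map_mul, ← map_mul, show b * b * b = b ^ 3 by rw [pow_succ, pow_two], hM.cube b hb, map_one]
    have t1 := line a ha haK
    have t2 := line b hb hbK
    have t3 := line _ (mul_mem ha hb) h1
    have t4 := line _ (mul_mem ha (mul_mem hb hb)) h2
    have t5 : avg ρ K * ((1 + A + A * A) * (1 + B + B * B)) * (1 + ρ m) = 0 := by
      rw [mul_assoc, mul_assoc]
      have hc : Commute (1 + B + B * B) (1 + ρ m) := by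
        refine ((Commute.one_left _).add_left ?_).add_left (Commute.mul_left ?_ ?_) <;>
          exact (Commute.one_right _).add_right (hM.commute_map hb hm)
      rw [hc.eq, ← mul_assoc, ← mul_assoc, t1, zero_mul]
    rw [map_mul] at t3 t4
    rw [map_mul] at t4
    have key : (1 : R) = (1 + A + A * A) + (1 + B + B * B) + (1 + A * B + A * B * (A * B)) +
        (1 + A * (B * B) + A * (B * B) * (A * (B * B))) + (1 + A + A * A) * (1 + B + B * B) := by
      have hc : B * A = A * B := hAB.symm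
      have e1 : A * B * (A * B) = A * A * (B * B) := by
        simp only [mul_assoc]; rw [← mul_assoc B A, hc, mul_assoc]
      have e2 : A * (B * B) * (A * (B * B)) = A * A * B := by
        have hBA : B * B * A = A * (B * B) := by
          rw [mul_assoc, hc, ← mul_assoc, hc, mul_assoc]
        calc A * (B * B) * (A * (B * B)) = A * ((B * B * A) * (B * B)) := by simp only [mul_assoc]
          _ = A * A * (B * B * B * B) := by rw [hBA]; simp only [mul_assoc]
          _ = A * A * B := by rw [hB3, one_mul]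
      rw [e1, e2]
      simp only [mul_add, add_mul, one_mul, mul_one]
      have z : ∀ x : R, (2 : ℕ) • x = 0 := fun x => by rw [two_nsmul, hM.add_self]
      abel_nf
      simp only [zsmul_eq_mul, nsmul_eq_mul, mul_one]
      push_cast
      rw [show (5 : R) = 1 + 2 * 2 by norm_num, hM.two]
      simp [hM.two]
    refine hK ?_
    have := congrArg (fun x => avg ρ K * x * (1 + ρ m)) key
    simp only [mul_one] at this
    rw [this]
    have gen : ∀ T1 T2 T3 T4 T5 : R, avg ρ K * (T1 + T2 + T3 + T4 + T5) * (1 + ρ m) =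
        avg ρ K * T1 * (1 + ρ m) + avg ρ K * T2 * (1 + ρ m) + avg ρ K * T3 * (1 + ρ m) +
          avg ρ K * T4 * (1 + ρ m) + avg ρ K * T5 * (1 + ρ m) := fun _ _ _ _ _ => by
      simp only [mul_add, add_mul]; abel
    rw [gen, t1, t2, t3, t4, t5]
    simp
  refine ⟨K, ⟨hKM, fun h => hmK (h ▸ hm), hhyp, fun h => hK ?_⟩, hmK⟩
  have hKe : avg ρ K = avg ρ M := by
    calc avg ρ K = avg ρ K + (avg ρ M + avg ρ M) := by rw [hM.add_self, add_zero]
      _ = avg ρ M := by rw [← add_assoc, ← proj, h, zero_add]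
  rw [hKe, mul_add, mul_one, avg_mul_map ρ hm, hM.add_self]

theorem Hyp.eq_one_of_mem_all {m : Γ} (hm : m ∈ M) (h : ∀ H, IsWeight ρ M H → m ∈ H) : ρ m = 1 := by
  by_contra hne
  obtain ⟨H, hH, hmH⟩ := hM.exists_weight hm hne
  exact hmH (h H hH)

end CfsgLib.LargeFischer.Weights
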